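import Mathlib
import Cfsg.Agent.Lib.Helper70.Alp.S3782Glue
import Cfsg.Agent.Lib.Helper70.Alp.S3782Final
import Cfsg.Agent.Lib.Helper70.Alp.S3782LemLieTor
import Cfsg.Agent.Lib.Helper29.Alp.S3782LemSecFix
import Cfsg.Agent.Lib.Helper33.Alp.S3782LemDerExt
import Cfsg.Agent.Lib.Helper33.Alp.S3782LemSecCard
import Cfsg.Agent.Lib.Helper45.Alp.S3782LemFixQuot
import Cfsg.Agent.Lib.Helper45.Alp.S3782LemGenCard
import Cfsg.Agent.Lib.Helper74.Alp.S3782LemKer
import Cfsg.Agent.Lib.Helper86.Alp.S3782LemLieEig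

/-!
# S3782 (Alperin): assembly of the landed packages (helper70)

Everything except `LemGrpTor`, `LemTop` and `LemDerCard`, which enter as hypotheses.
-/

set_option autoImplicit false

namespace Cfsg.Agent.Lib.Helper70.Alp

universe u

theorem lemSecCard_full : LemSecCard.{u} :=
  Cfsg.Agent.Lib.Helper33.Alp.lemSecCard Cfsg.Agent.Lib.Helper45.Alp.lemFixQuot
    Cfsg.Agent.Lib.Helper45.Alp.lemGenCard

theorem lemLieTor_full : LemLieTor.{u} := lemLieTor Cfsg.Agent.Lib.Helper86.Alp.lemLieEig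

theorem s3782_of_three (hE : LemLieTor.{u} → LemGrpTor.{u}) (hTop : LemSecCard.{u} → LemTop.{u})
    (hCard : LemDerCard.{u}) (p : ℕ) (hp : p.Prime) (n : ℕ)
    (G : Type u) [Group G] [Finite G] (hsol : Group.IsSolvable G) (α : MulAut G)
    (hα : orderOf α = p) (hfix : Nat.card {g : G // α g = g} = p ^ n) :
    derivedSeries G (topB p n + dP p n + hB p) = ⊥ :=
  s3782_of Cfsg.Agent.Lib.Helper45.Alp.lemFixQuot
    (thmP (thmClass (hE lemLieTor_full) Cfsg.Agent.Lib.Helper29.Alp.lemSecFix lemSecCard_full))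
    Cfsg.Agent.Lib.Helper74.Alp.lemKer (hTop lemSecCard_full)
    Cfsg.Agent.Lib.Helper33.Alp.lemDerExt hCard p hp n G hsol α hα hfix

end Cfsg.Agent.Lib.Helper70.Alp
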