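import Mathlib
import Cfsg.Agent.Lib.Helper70.Alp.S3782Pre
import Cfsg.Agent.Lib.Helper15.Alp.S3782LemDerCard
import Cfsg.Agent.Lib.Helper68.Alp.S3782LemGrpTor

/-!
# S3782 (Alperin): assembly of all packages except `LemTop` (helper70)
-/

set_option autoImplicit false

namespace Cfsg.Agent.Lib.Helper70.Alp

universe u

theorem s3782_of_top (hTop : LemSecCard.{u} → LemTop.{u}) (p : ℕ) (hp : p.Prime) (n : ℕ)
    (G : Type u) [Group G] [Finite G] (hsol : Group.IsSolvable G) (α : MulAut G)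
    (hα : orderOf α = p) (hfix : Nat.card {g : G // α g = g} = p ^ n) :
    derivedSeries G (topB p n + dP p n + hB p) = ⊥ :=
  s3782_of_three Cfsg.Agent.Lib.Helper68.Alp.lemGrpTor hTop
    Cfsg.Agent.Lib.Helper15.Alp.lemDerCard p hp n G hsol α hα hfix

end Cfsg.Agent.Lib.Helper70.Alp
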